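/-
A normal cover of prime degree of a complete regular local ring, unramified in codimension one, comes from a
Galois extension of the residue field of the same degree.
-/
import Mathlib
import Groth.Agent.Purity.Inertia
import Groth.Agent.Hensel.Branches
import Groth.Agent.SegreDim.Noether
import Groth.Agent.RegLoc.Normal

set_option autoImplicit false
universe u v w

open IsLocalRing
open scoped Pointwise

namespace Groth.Agent.WildExt

theorem henselianLocalRing_of_complete (R : Type u) [CommRing R] [IsLocalRing R]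
    [IsAdicComplete (maximalIdeal R) R] : HenselianLocalRing R where
  is_henselian f hf a₀ h₁ h₂ := HenselianRing.is_henselian f hf a₀ h₁ (h₂.map (Ideal.Quotient.mk (maximalIdeal R)))

variable {R : Type u} [CommRing R] [IsRegularLocalRing R] {C : Type v} [CommRing C] [IsDomain C]
  [IsIntegrallyClosed C] [Algebra R C] [Module.Finite R C] {H : Type w} [Group H] [Finite H]
  [MulSemiringAction H C] [SMulCommClass H R C]

/-- Finite normal, inertia free in codimension one: étale. -/
theorem etale_of_inertia_eq_bot (hinj : Function.Injective (algebraMap R C)) [FaithfulSMul H C]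
    (hfix : ∀ c : C, (∀ h : H, h • c = c) → c ∈ Set.range (algebraMap R C))
    (hI : ∀ P : Ideal C, P.IsPrime → P.height = 1 → P.inertia H = ⊥) : Algebra.Etale R C := by
  classical
  haveI := RegLoc.isDomain R
  haveI := UFDLib.ufd_of_isRegularLocalRing R
  haveI : Fintype H := Fintype.ofFinite H
  haveI : Algebra.IsIntegral R C := Algebra.IsIntegral.of_finite R C
  haveI := SerreReg.isRegularRing_of_isRegularLocalRing R
  haveI : Algebra.FiniteType R C := Module.Finite.finiteType C
  refine Purity.etale_of_codim_one' (fun p hp => IsRegularRing.isRegularLocalRing_localization (R := R) p)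
    (fun a b ha _ hab => Purity.two_normal hab ha C hinj) fun p hp hle => ?_
  haveI := hp
  have hI' : ∀ P : Ideal C, P.IsPrime → P.comap (algebraMap R C) = p → P.inertia H ≤ (⊥ : Subgroup H) := by
    intro P hP hPp
    haveI := hP
    rcases (eq_or_lt_of_le (Purity.height_le_one_of_comap hinj P (hPp ▸ hle))).symm.imp_left
      Order.lt_one_iff.1 with h0 | h1
    · have hP0 : P = ⊥ := by
        by_contra hne
        haveI : (⊥ : Ideal C).IsPrime := Ideal.isPrime_bot
        have h := Ideal.height_add_one_le_of_lt_of_isPrime (bot_lt_iff_ne_bot.2 hne)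
        rw [Ideal.height_bot, h0] at h
        exact absurd h (by norm_num)
      intro x hx
      rw [Subgroup.mem_bot]
      exact FaithfulSMul.eq_of_smul_eq_smul (α := C) fun a => by
        rw [one_smul, ← sub_eq_zero, ← Ideal.mem_bot, ← hP0]
        exact hx a
    · exact (hI P hP h1).le
  obtain ⟨s, hs, ι, hι, x, y, -, -, hsum, hzero⟩ :=
    Purity.CHR.exists_chr hinj hI' (Finset.univ.erase (1 : H))
      (fun σ hσ => fun h => (Finset.mem_erase.1 hσ).1 (Subgroup.mem_bot.1 h))
  choose T hT using fun c : C => hfix (∑ h : H, h • c) fun g => by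
    rw [Finset.smul_sum]
    exact Fintype.sum_equiv (Equiv.mulLeft g) _ _ fun h => (mul_smul g h c).symm
  let t : C →ₗ[R] R :=
    { toFun := T
      map_add' := fun c c' => hinj (by
        rw [map_add, hT, hT, hT]; simp only [smul_add, Finset.sum_add_distrib])
      map_smul' := fun r c => hinj (by
        rw [RingHom.id_apply, smul_eq_mul, map_mul, hT, hT, ← Algebra.smul_def, Finset.smul_sum]
        exact Finset.sum_congr rfl fun h _ => smul_comm h r c) }
  refine ⟨s, hs, Purity.etale_away_of_trace x y t s hsum (fun c => ?_) (fun c => ?_)⟩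
  · have h1 : ∀ i, t (y i * c) • x i = ∑ h : H, x i * (h • y i * h • c) := fun i => by
      rw [Algebra.smul_def]
      show algebraMap R C (T (y i * c)) * x i = _
      rw [hT, Finset.sum_mul]
      exact Finset.sum_congr rfl fun h _ => by rw [smul_mul', mul_comm]
    rw [Finset.sum_congr rfl fun i _ => h1 i, Finset.sum_comm, Finset.sum_eq_single (1 : H)]
    · simp only [one_smul]
      rw [Algebra.smul_def, ← hsum, Finset.sum_mul]
      exact Finset.sum_congr rfl fun i _ => by ring
    · intro h _ hne
      simp only [← mul_assoc]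
      rw [← Finset.sum_mul, hzero h (Finset.mem_erase.2 ⟨hne, Finset.mem_univ _⟩), zero_mul]
    · exact fun h => absurd (Finset.mem_univ _) h
  · have h1 : ∀ i, t (x i * c) • y i = ∑ h : H, y i * (h • x i * h • c) := fun i => by
      rw [Algebra.smul_def]
      show algebraMap R C (T (x i * c)) * y i = _
      rw [hT, Finset.sum_mul]
      exact Finset.sum_congr rfl fun h _ => by rw [smul_mul', mul_comm]
    rw [Finset.sum_congr rfl fun i _ => h1 i, Finset.sum_comm, Finset.sum_eq_single (1 : H)]
    · simp only [one_smul]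
      rw [Algebra.smul_def, ← hsum, Finset.sum_mul]
      exact Finset.sum_congr rfl fun i _ => by ring
    · intro h _ hne
      have h2 : ∀ i, y i * (h • x i * h • c) = h • ((x i * h⁻¹ • y i) * c) := fun i => by
        rw [smul_mul', smul_mul', smul_inv_smul]; ring
      rw [Finset.sum_congr rfl fun i _ => h2 i, ← Finset.smul_sum, ← Finset.sum_mul,
        hzero h⁻¹ (Finset.mem_erase.2 ⟨inv_ne_one.2 hne, Finset.mem_univ _⟩), zero_mul, smul_zero]
    · exact fun h => absurd (Finset.mem_univ _) h

end Groth.Agent.WildExt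

namespace Groth.Agent.WildExt

variable {R : Type u} [CommRing R] [IsRegularLocalRing R] [IsAdicComplete (maximalIdeal R) R]

/-- No normal Galois cover of degree `p` unramified in codimension one if the residue field has no Galois
extension of degree `p`. -/
theorem no_cover {p : ℕ} [Fact p.Prime] (k : Type v) [Field k] [Algebra k R]
    (hk : Function.Surjective (residue R ∘ algebraMap k R))
    (hkp : ∀ (L : Type v) [Field L] [Algebra k L], IsGalois k L → Module.finrank k L ≠ p)
    {C : Type u} [CommRing C] [IsDomain C] [IsIntegrallyClosed C] [Algebra R C] [Module.Finite R C]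
    {H : Type w} [Group H] [Finite H] [MulSemiringAction H C] [SMulCommClass H R C] [FaithfulSMul H C]
    (hcard : Nat.card H = p) (hinj : Function.Injective (algebraMap R C))
    (hfix : ∀ c : C, (∀ h : H, h • c = c) → c ∈ Set.range (algebraMap R C))
    (hI : ∀ P : Ideal C, P.IsPrime → P.height = 1 → P.inertia H = ⊥) : False := by
  classical
  haveI := etale_of_inertia_eq_bot hinj hfix hI
  haveI : Algebra.IsIntegral R C := Algebra.IsIntegral.of_finite R C
  haveI := henselianLocalRing_of_complete R
  haveI : IsLocalRing C := Hensel.isLocalRing_of_integral_domain R C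
  haveI : IsNoetherianRing C := IsNoetherianRing.of_finite R C
  haveI : IsLocalHom (algebraMap R C) :=
    RingHom.IsIntegral.isLocalHom (algebraMap_isIntegral_iff.2 inferInstance) hinj
  haveI : Algebra.IsInvariant R C H := ⟨hfix⟩
  let mR := maximalIdeal R
  let mC := maximalIdeal C
  haveI : mC.LiesOver mR := ⟨(IsLocalRing.maximalIdeal_comap (algebraMap R C)).symm⟩
  -- inertia at the closed point is trivial
  have hker : ∀ h : H, (∀ c : C, h • c - c ∈ mC) → h = 1 := by
    intro h hh
    let f : C →ₐ[R] C := MulSemiringAction.toAlgHom R C h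
    refine FaithfulSMul.eq_of_smul_eq_smul (α := C) fun c => ?_
    rw [one_smul, ← sub_eq_zero]
    have hall : ∀ n : ℕ, (h • c - c) ∈ mC ^ n := by
      intro n
      rcases Nat.eq_zero_or_pos n with rfl | hn
      · simp
      let q : C →ₐ[R] C ⧸ mC ^ n := Ideal.Quotient.mkₐ R (mC ^ n)
      let g : (C ⧸ mC ^ n) →+* C ⧸ mC := Ideal.Quotient.factor (Ideal.pow_le_self hn.ne')
      have hnil : IsNilpotent (RingHom.ker g) := by
        refine ⟨n, ?_⟩
        rw [Ideal.Quotient.factor_ker, ← Ideal.map_pow, Ideal.map_quotient_self]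
        rfl
      have := DFunLike.congr_fun (Algebra.FormallyUnramified.ext' g hnil (q.comp f) q fun x =>
        Ideal.Quotient.eq.2 (hh x)) c
      exact Ideal.Quotient.eq.1 this
    have hmem : h • c - c ∈ (⨅ n, mC ^ n : Ideal C) := Ideal.mem_iInf.2 hall
    rwa [Ideal.iInf_pow_eq_bot_of_isLocalRing mC (maximalIdeal.isMaximal C).ne_top, Ideal.mem_bot] at hmem
  -- the residue extension
  letI := Ideal.Quotient.field mR
  letI := Ideal.Quotient.field mC
  haveI hsep : Algebra.IsSeparable (R ⧸ mR) (C ⧸ mC) :=
    (inferInstance : Algebra.IsSeparable (ResidueField R) (ResidueField C))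
  haveI : Normal (R ⧸ mR) (C ⧸ mC) := Ideal.Quotient.normal H mR mC
  haveI : Module.Finite (R ⧸ mR) (C ⧸ mC) :=
    (inferInstance : Module.Finite (ResidueField R) (ResidueField C))
  haveI : IsGalois (R ⧸ mR) (C ⧸ mC) := { }
  have hstab : MulAction.stabilizer H mC = ⊤ := by
    rw [eq_top_iff]
    intro h _
    rw [MulAction.mem_stabilizer_iff]
    ext x
    rw [Ideal.mem_pointwise_smul_iff_inv_smul_mem, IsLocalRing.mem_maximalIdeal, IsLocalRing.mem_maximalIdeal,
      mem_nonunits_iff, mem_nonunits_iff]
    exact not_congr (MulEquiv.isUnit_map (f := (MulSemiringAction.toRingEquiv H C h⁻¹)))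
  let Φ := Ideal.Quotient.stabilizerHom mC mR H
  have hΦ : Function.Bijective Φ := by
    refine ⟨(injective_iff_map_eq_one Φ).2 fun h hh => Subtype.ext (hker h.1 fun c => ?_),
      Ideal.Quotient.stabilizerHom_surjective H mR mC⟩
    have := DFunLike.congr_fun hh (Ideal.Quotient.mk mC c)
    exact Ideal.Quotient.eq.1 this
  have hrank : Module.finrank (R ⧸ mR) (C ⧸ mC) = p := by
    rw [← IsGalois.card_aut_eq_finrank, ← Nat.card_eq_of_bijective Φ hΦ, hstab,
      Nat.card_congr Subgroup.topEquiv.toEquiv, hcard]
  -- transport to `k`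
  letI : Algebra k (C ⧸ mC) := ((algebraMap (R ⧸ mR) (C ⧸ mC)).comp
    ((Ideal.Quotient.mk mR).comp (algebraMap k R))).toAlgebra
  let e : k ≃+* R ⧸ mR := RingEquiv.ofBijective ((Ideal.Quotient.mk mR).comp (algebraMap k R))
    ⟨RingHom.injective _, hk⟩
  haveI hG : IsGalois k (C ⧸ mC) :=
    IsGalois.of_equiv_equiv (F := R ⧸ mR) (E := C ⧸ mC) (f := e.symm) (g := RingEquiv.refl _) (by
      ext x
      show algebraMap (R ⧸ mR) (C ⧸ mC) (e (e.symm x)) = _
      rw [RingEquiv.apply_symm_apply]
      rfl)
  have hrk : Module.finrank k (C ⧸ mC) = p := by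
    rw [← hrank]
    exact Algebra.finrank_eq_of_equiv_equiv e (RingEquiv.refl _) (by ext x; rfl)
  haveI : Module.Finite k (C ⧸ mC) :=
    Module.finite_of_finrank_pos (by rw [hrk]; exact (Fact.out : p.Prime).pos)
  obtain ⟨n, φ, hφ⟩ := Module.Finite.exists_fin' k (C ⧸ mC)
  haveI : Small.{v} (C ⧸ mC) := small_of_surjective hφ
  letI : Field (Shrink.{v} (C ⧸ mC)) := (equivShrink (C ⧸ mC)).symm.field
  letI : Algebra k (Shrink.{v} (C ⧸ mC)) := (equivShrink (C ⧸ mC)).symm.algebra k
  let eA : (C ⧸ mC) ≃ₐ[k] Shrink.{v} (C ⧸ mC) := ((equivShrink (C ⧸ mC)).symm.algEquiv k).symm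
  exact hkp (Shrink.{v} (C ⧸ mC)) (IsGalois.of_algEquiv eA) (by rw [← eA.toLinearEquiv.finrank_eq, hrk])

end Groth.Agent.WildExt
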