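/-
A group acting on an unramified local algebra, trivially on the residue field, is trivial.
-/
import Mathlib

set_option autoImplicit false
universe u v w

open IsLocalRing

namespace Groth.Agent.WildExt

/-- Automorphisms of an unramified Noetherian local domain over the base are detected on the residue field. -/
theorem eq_one_of_smul_sub_mem {R : Type u} [CommRing R] {C : Type v} [CommRing C] [IsDomain C] [IsLocalRing C]
    [IsNoetherianRing C] [Algebra R C] [Algebra.FormallyUnramified R C] {H : Type w} [Group H]
    [MulSemiringAction H C] [SMulCommClass H R C] [FaithfulSMul H C] (h : H)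
    (hh : ∀ c : C, h • c - c ∈ maximalIdeal C) : h = 1 := by
  let mC := maximalIdeal C
  let f : C →ₐ[R] C := MulSemiringAction.toAlgHom R C h
  refine FaithfulSMul.eq_of_smul_eq_smul (α := C) fun c => ?_
  rw [one_smul, ← sub_eq_zero]
  have hall : ∀ n : ℕ, (h • c - c) ∈ mC ^ n := by
    intro n
    rcases Nat.eq_zero_or_pos n with rfl | hn
    · simp
    let q : C →ₐ[R] C ⧸ mC ^ n := Ideal.Quotient.mkₐ R (mC ^ n)
    let g : (C ⧸ mC ^ n) →+* C ⧸ mC := Ideal.Quotient.factor (Ideal.pow_le_self hn.ne')
    have hnil : IsNilpotent (RingHom.ker g) := by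
      refine ⟨n, ?_⟩
      rw [Ideal.Quotient.factor_ker, ← Ideal.map_pow, Ideal.map_quotient_self]
      rfl
    have := DFunLike.congr_fun (Algebra.FormallyUnramified.ext' g hnil (q.comp f) q fun x =>
      Ideal.Quotient.eq.2 (hh x)) c
    exact Ideal.Quotient.eq.1 this
  have hmem : h • c - c ∈ (⨅ n, mC ^ n : Ideal C) := Ideal.mem_iInf.2 hall
  rwa [Ideal.iInf_pow_eq_bot_of_isLocalRing mC (maximalIdeal.isMaximal C).ne_top, Ideal.mem_bot] at hmem

end Groth.Agent.WildExt
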