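/-
Lifting automorphisms of the invariant ring through a quotient map ramified only at the origin.
-/
import Mathlib
import Groth.Agent.WildExt.Cover

set_option autoImplicit false
universe u v w

open IsLocalRing
open scoped Pointwise TensorProduct
open Function (onFun)

noncomputable section

namespace Groth.Agent.WildExt

section Tensor

variable (K : Type u) [Field K] (L : Type u) [Field L] [Algebra K L] (M : Type u) [Field M] [Algebra K M]
  (G : Type w) [Group G] [MulSemiringAction G M] [SMulCommClass G K M]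

/-- The action on the right factor. -/
def rightHom : G →* ((L ⊗[K] M) ≃ₐ[L] (L ⊗[K] M)) where
  toFun σ := Algebra.TensorProduct.congr AlgEquiv.refl (MulSemiringAction.toAlgEquiv K M σ)
  map_one' := by
    ext x
    induction x with
    | zero => simp
    | tmul l m => simp
    | add x y hx hy => rw [map_add, map_add, hx, hy]
  map_mul' σ τ := by
    ext x
    induction x with
    | zero => simp
    | tmul l m => simp [mul_smul]
    | add x y hx hy => simp_all

/-- The action on the right factor, as an action. -/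
@[reducible] def rightAction : MulSemiringAction G (L ⊗[K] M) :=
  MulSemiringAction.compHom (L ⊗[K] M) (rightHom K L M G)

theorem rightHom_tmul (σ : G) (l : L) (m : M) : rightHom K L M G σ (l ⊗ₜ m) = l ⊗ₜ (σ • m) := rfl

end Tensor

variable {K : Type u} [Field K] {L : Type u} [Field L] [Algebra K L] {M : Type u} [Field M] [Algebra K M]
  {G : Type w} [Group G] [Finite G] [MulSemiringAction G M] [SMulCommClass G K M]

theorem exists_sum_smul_eq_one [FaithfulSMul G M] [Fintype G] : ∃ c : M, ∑ σ : G, σ • c = 1 := by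
  obtain ⟨c, hc⟩ : ∃ c : M, ∑ σ : G, σ • c ≠ 0 := by
    by_contra h
    push_neg at h
    have hli : LinearIndependent M (fun σ : G => ((MulSemiringAction.toRingHom G M σ : M →* M) : M → M)) :=
      (linearIndependent_monoidHom M M).comp _ fun σ τ hστ =>
        FaithfulSMul.eq_of_smul_eq_smul fun m => DFunLike.congr_fun hστ m
    exact one_ne_zero (Fintype.linearIndependent_iff.1 hli (fun _ => 1) (funext fun m => by
      simpa using h m) 1)
  refine ⟨c / ∑ σ : G, σ • c, ?_⟩
  have hfix : ∀ τ : G, τ • (∑ σ : G, σ • c) = ∑ σ : G, σ • c := fun τ => by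
    rw [Finset.smul_sum]
    exact Fintype.sum_equiv (Equiv.mulLeft τ) _ _ fun σ => (mul_smul τ σ c).symm
  simp only [div_eq_mul_inv, smul_mul', smul_inv'', hfix]
  rw [← Finset.sum_mul, mul_inv_cancel₀ hc]

/-- Invariants of the right action. -/
theorem fixed_tensor [FaithfulSMul G M] (hfix : ∀ m : M, (∀ σ : G, σ • m = m) → m ∈ Set.range (algebraMap K M))
    (x : L ⊗[K] M) (hx : ∀ σ : G, rightHom K L M G σ x = x) : x ∈ Set.range (algebraMap L (L ⊗[K] M)) := by
  classical
  letI : Fintype G := Fintype.ofFinite G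
  obtain ⟨c, hc⟩ := exists_sum_smul_eq_one (M := M) (G := G)
  have h1 : ∀ y : L ⊗[K] M, ∑ σ : G, rightHom K L M G σ y ∈ (⊥ : Subalgebra L (L ⊗[K] M)) := by
    intro y
    induction y with
    | zero => simp
    | tmul l m =>
      simp only [rightHom_tmul, ← TensorProduct.tmul_sum]
      obtain ⟨a, ha⟩ := hfix (∑ σ : G, σ • m) fun τ => by
        rw [Finset.smul_sum]
        exact Fintype.sum_equiv (Equiv.mulLeft τ) _ _ fun σ => (mul_smul τ σ m).symm
      refine Algebra.mem_bot.2 ⟨algebraMap K L a * l, ?_⟩
      rw [← ha, Algebra.TensorProduct.algebraMap_apply, Algebra.algebraMap_self, RingHom.id_apply,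
        ← Algebra.smul_def, Algebra.algebraMap_eq_smul_one (A := M), TensorProduct.smul_tmul]
    | add y z hy hz =>
      simp only [map_add, Finset.sum_add_distrib]
      exact add_mem hy hz
  have h2 := h1 (x * ((1 : L) ⊗ₜ c))
  simp only [map_mul, hx, rightHom_tmul, ← Finset.mul_sum, ← TensorProduct.tmul_sum, hc] at h2
  rw [← Algebra.TensorProduct.one_def, mul_one] at h2
  exact Algebra.mem_bot.1 h2

variable {p : ℕ} [Fact p.Prime]

/-- A field with an action of a group of prime order: the right-twisted square is a field or has a point. -/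
theorem isField_or_point [IsGalois K M] [FiniteDimensional K M] [FaithfulSMul G M] (hcard : Nat.card G = p)
    (hrank : Module.finrank K M = p)
    (hfix : ∀ m : M, (∀ σ : G, σ • m = m) → m ∈ Set.range (algebraMap K M)) :
    IsField (L ⊗[K] M) ∨ Nonempty (M →ₐ[K] L) := by
  classical
  letI : Fintype G := Fintype.ofFinite G
  letI := rightAction K L M G
  haveI : SMulCommClass G L (L ⊗[K] M) := ⟨fun σ l x => map_smul (rightHom K L M G σ) l x⟩
  haveI : SMulCommClass L G (L ⊗[K] M) := SMulCommClass.symm _ _ _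
  haveI : Algebra.IsInvariant L (L ⊗[K] M) G := ⟨fun x hx => fixed_tensor hfix x hx⟩
  haveI : Algebra.FormallyEtale K M := Algebra.FormallyEtale.of_isSeparable K M
  haveI : Nontrivial (L ⊗[K] M) :=
    (Algebra.TensorProduct.includeRight_injective (A := L) (B := M) (algebraMap K L).injective).nontrivial
  haveI : IsReduced (L ⊗[K] M) := Algebra.FormallyUnramified.isReduced_of_field L (L ⊗[K] M)
  have hE : Module.finrank L (L ⊗[K] M) = p := by rw [Module.finrank_baseChange, hrank]
  obtain ⟨m, hm⟩ := Ideal.exists_maximal (L ⊗[K] M)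
  haveI := hm
  haveI hcyc : Fact (Nat.card G).Prime := ⟨hcard ▸ Fact.out⟩
  rcases Subgroup.eq_bot_or_eq_top_of_prime_card (MulAction.stabilizer G m) with hs | hs
  · right
    have hinj : Function.Injective fun σ : G => σ • m := fun σ τ h => by
      have : τ⁻¹ * σ ∈ MulAction.stabilizer G m := by
        rw [MulAction.mem_stabilizer_iff, mul_smul]
        simp only at h
        rw [h, inv_smul_smul]
      rw [hs, Subgroup.mem_bot, inv_mul_eq_one] at this
      exact this.symm
    haveI hmax : ∀ σ : G, (σ • m).IsMaximal := fun σ => by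
      rw [Ideal.pointwise_smul_def]
      exact Ideal.map_isMaximal_of_equiv (MulSemiringAction.toRingEquiv G (L ⊗[K] M) σ)
    have hco : Pairwise (Function.onFun IsCoprime fun σ : G => σ • m) := fun σ τ hne =>
      Ideal.isCoprime_iff_sup_eq.2 ((hmax σ).coprime_of_ne (hmax τ) (hinj.ne hne))
    let Φ : (L ⊗[K] M) →ₗ[L] ((σ : G) → (L ⊗[K] M) ⧸ σ • m) :=
      LinearMap.pi fun σ => (Ideal.Quotient.mkₐ L (σ • m)).toLinearMap
    have hΦ : Function.Surjective Φ := fun x => by
      obtain ⟨r, hr⟩ := Ideal.pi_quotient_surjective hco x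
      exact ⟨r, funext hr⟩
    have hle := LinearMap.finrank_le_finrank_of_surjective hΦ
    rw [hE, Module.finrank_pi_fintype] at hle
    have hpos : ∀ σ : G, 1 ≤ Module.finrank L ((L ⊗[K] M) ⧸ σ • m) := fun σ => Module.finrank_pos
    have h1 : Module.finrank L ((L ⊗[K] M) ⧸ (1 : G) • m) ≤ 1 := by
      by_contra hlt
      have := Finset.sum_lt_sum (s := Finset.univ) (fun σ _ => hpos σ) ⟨1, Finset.mem_univ _, not_le.1 hlt⟩
      simp only [Finset.sum_const, Finset.card_univ, smul_eq_mul, mul_one, ← Nat.card_eq_fintype_card,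
        hcard] at this
      omega
    have hbij : Function.Bijective (Algebra.ofId L ((L ⊗[K] M) ⧸ (1 : G) • m)) := by
      refine ⟨(algebraMap L _).injective, ?_⟩
      have := Subalgebra.bot_eq_top_of_finrank_eq_one (le_antisymm h1 (hpos 1))
      exact fun x => Algebra.mem_bot.1 (this ▸ Algebra.mem_top)
    exact ⟨((AlgEquiv.ofBijective _ hbij).symm.toAlgHom.comp (Ideal.Quotient.mkₐ L ((1 : G) • m))).restrictScalars K
      |>.comp Algebra.TensorProduct.includeRight⟩
  · left
    have hall : ∀ Q : Ideal (L ⊗[K] M), Q.IsPrime → Q = m := by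
      intro Q hQ
      haveI := hQ
      obtain ⟨σ, hσ⟩ := Algebra.IsInvariant.exists_smul_of_under_eq L (L ⊗[K] M) G m Q
        ((Ideal.eq_bot_of_prime _).trans (Ideal.eq_bot_of_prime _).symm)
      rw [hσ]
      exact MulAction.mem_stabilizer_iff.1 (hs ▸ Subgroup.mem_top σ)
    have hbot : m = ⊥ := by
      rw [eq_bot_iff]
      intro x hx
      rw [Ideal.mem_bot]
      refine IsReduced.eq_zero x ?_
      rw [nilpotent_iff_mem_prime]
      exact fun Q hQ => (hall Q hQ).symm ▸ hx
    by_contra hnf
    obtain ⟨I, hI, hI'⟩ := Ring.not_isField_iff_exists_ideal_bot_lt_and_lt_top.1 hnf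
    exact (hm.eq_of_le hI'.ne (hbot ▸ bot_le) ▸ hI).ne' hbot

end Groth.Agent.WildExt

namespace Groth.Agent.WildExt

variable {A : Type u} [CommRing A] [IsRegularLocalRing A] [IsAdicComplete (maximalIdeal A) A]

/-- The twisted square of the extension of fraction fields is not a field. -/
theorem exists_point {p : ℕ} [Fact p.Prime] (k : Type v) [Field k] [Algebra k A]
    (hk : Function.Surjective (residue A ∘ algebraMap k A))
    (hkp : ∀ (L : Type v) [Field L] [Algebra k L], IsGalois k L → Module.finrank k L ≠ p)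
    (hdim : 2 ≤ ringKrullDim A)
    {G : Type w} [Group G] [Finite G] [MulSemiringAction G A] (hcard : Nat.card G = p)
    (hram : ∀ P : Ideal A, P.IsPrime → P ≠ maximalIdeal A → P.inertia G = ⊥)
    {K : Type u} [Field K] (L : Type u) [Field L] [Algebra A L] [IsFractionRing A L] [Algebra K L]
    {M : Type u} [Field M] [Algebra K M] [FiniteDimensional K M] [IsGalois K M]
    [MulSemiringAction G M] [SMulCommClass G K M] [FaithfulSMul G M]
    (hrank : Module.finrank K M = p)
    (hfix : ∀ m : M, (∀ σ : G, σ • m = m) → m ∈ Set.range (algebraMap K M))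
    (j : A →+* M) (hj : Function.Injective j) (hjσ : ∀ (σ : G) (a : A), j (σ • a) = σ • j a)
    {B : Type u} [CommRing B] (β β' : B →+* A) (hβ : β.IsIntegral) (hβ' : β'.IsIntegral)
    (χ : B →+* K) (hχ : ∀ b, algebraMap K L (χ b) = algebraMap A L (β b))
    (hχ' : ∀ b, algebraMap K M (χ b) = j (β' b)) : Nonempty (M →ₐ[K] L) := by
  classical
  refine (isField_or_point (L := L) (M := M) hcard hrank hfix).resolve_left fun hF => ?_
  haveI := RegLoc.isDomain A
  haveI : IsIntegrallyClosed A := RegLoc.isIntegrallyClosed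
  letI := rightAction K L M G
  haveI : SMulCommClass G L (L ⊗[K] M) := ⟨fun σ l x => map_smul (rightHom K L M G σ) l x⟩
  letI : Field (L ⊗[K] M) := hF.toField
  haveI : SMulCommClass G A (L ⊗[K] M) := ⟨fun σ a x => by
    rw [← IsScalarTower.algebraMap_smul L a x, ← IsScalarTower.algebraMap_smul L a (σ • x)]
    exact smul_comm σ _ x⟩
  haveI : Algebra.FormallyEtale K M := Algebra.FormallyEtale.of_isSeparable K M
  haveI : Algebra.IsSeparable L (L ⊗[K] M) := Algebra.FormallyUnramified.isSeparable L (L ⊗[K] M)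
  let C := integralClosure A (L ⊗[K] M)
  haveI : IsIntegralClosure C A (L ⊗[K] M) := integralClosure.isIntegralClosure A (L ⊗[K] M)
  haveI : Module.Finite A C := IsIntegralClosure.finite A L (L ⊗[K] M) C
  haveI : IsIntegrallyClosed C := integralClosure.isIntegrallyClosedOfFiniteExtension L
  haveI : IsDomain C := inferInstance
  let act : G → C → C := fun σ c => ⟨σ • (c : L ⊗[K] M),
    (c.2 : IsIntegral A (c : L ⊗[K] M)).map (MulSemiringAction.toAlgHom A (L ⊗[K] M) σ)⟩
  letI : MulSemiringAction G C :=
    { smul := act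
      one_smul := fun c => Subtype.ext (one_smul G (c : L ⊗[K] M))
      mul_smul := fun σ τ c => Subtype.ext (mul_smul σ τ (c : L ⊗[K] M))
      smul_zero := fun σ => Subtype.ext (smul_zero σ)
      smul_add := fun σ c d => Subtype.ext (smul_add σ (c : L ⊗[K] M) d)
      smul_one := fun σ => Subtype.ext (smul_one σ)
      smul_mul := fun σ c d => Subtype.ext (smul_mul' σ (c : L ⊗[K] M) d) }
  haveI : SMulCommClass G A C := ⟨fun σ a c => Subtype.ext (smul_comm σ a (c : L ⊗[K] M))⟩
  -- the second copy of `A`
  let j₀ : A →+* (L ⊗[K] M) := (Algebra.TensorProduct.includeRight (R := K) (A := L) (B := M)).toRingHom.comp j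
  have hj₀ : Function.Injective j₀ :=
    (Algebra.TensorProduct.includeRight_injective (algebraMap K L).injective).comp hj
  have hβeq : ∀ b, j₀ (β' b) = algebraMap A (L ⊗[K] M) (β b) := fun b => by
    show (1 : L) ⊗ₜ[K] j (β' b) = _
    rw [IsScalarTower.algebraMap_apply A L (L ⊗[K] M), ← hχ', ← hχ, Algebra.algebraMap_eq_smul_one (A := M),
      TensorProduct.tmul_smul, TensorProduct.smul_tmul', Algebra.algebraMap_eq_smul_one (A := L),
      Algebra.TensorProduct.algebraMap_apply, Algebra.algebraMap_self, RingHom.id_apply]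
  have hint : ∀ a, IsIntegral A (j₀ a) := fun a => by
    obtain ⟨q, hq, hq0⟩ := hβ' a
    refine ⟨q.map β, hq.map _, ?_⟩
    rw [Polynomial.eval₂_map, show (algebraMap A (L ⊗[K] M)).comp β = j₀.comp β' from
      RingHom.ext fun b => (hβeq b).symm, ← Polynomial.hom_eval₂, hq0, map_zero]
  let j' : A →+* C := j₀.codRestrict C.toSubring hint
  have hj' : Function.Injective j' := fun a b h => hj₀ (congrArg Subtype.val h)
  have hj'σ : ∀ (σ : G) (a : A), j' (σ • a) = σ • j' a := fun σ a => Subtype.ext <| by
    show (1 : L) ⊗ₜ[K] j (σ • a) = rightHom K L M G σ ((1 : L) ⊗ₜ[K] j a)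
    rw [rightHom_tmul, hjσ]
  have hj'int : j'.IsIntegral := RingHom.IsIntegral.tower_top β' j' (by
    rw [show j'.comp β' = (algebraMap A C).comp β from RingHom.ext fun b => Subtype.ext (hβeq b)]
    exact hβ.trans _ _ (algebraMap_isIntegral_iff.2 inferInstance))
  haveI : FaithfulSMul G C := ⟨fun {σ τ} h => by
    have hne : (⊥ : Ideal A) ≠ maximalIdeal A := fun he => by
      have h1 := IsLocalRing.maximalIdeal_height_eq_ringKrullDim (R := A)
      rw [← he, Ideal.height_bot] at h1
      rw [← h1] at hdim
      exact absurd (WithBot.coe_le_coe.1 hdim) (by norm_num)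
    have h2 : τ⁻¹ * σ ∈ (⊥ : Ideal A).inertia G := fun a => by
      rw [mul_smul, hj' (a₁ := σ • a) (a₂ := τ • a) (by rw [hj'σ, hj'σ]; exact h _), inv_smul_smul, sub_self]
      exact zero_mem _
    rw [hram ⊥ Ideal.isPrime_bot hne, Subgroup.mem_bot, inv_mul_eq_one] at h2
    exact h2.symm⟩
  have hinjA : Function.Injective (algebraMap A C) := fun a b h => by
    have h' := congrArg Subtype.val h
    exact IsFractionRing.injective A L ((algebraMap L (L ⊗[K] M)).injective (by
      rw [← IsScalarTower.algebraMap_apply, ← IsScalarTower.algebraMap_apply]; exact h'))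
  have hfixC : ∀ c : C, (∀ σ : G, σ • c = c) → c ∈ Set.range (algebraMap A C) := fun c hc => by
    obtain ⟨l, hl⟩ := fixed_tensor hfix (c : L ⊗[K] M) fun σ => congrArg Subtype.val (hc σ)
    have hli : IsIntegral A l := (isIntegral_algHom_iff (IsScalarTower.toAlgHom A L (L ⊗[K] M))
      (algebraMap L (L ⊗[K] M)).injective).1 (hl.symm ▸ c.2)
    obtain ⟨a, ha⟩ := IsIntegrallyClosed.isIntegral_iff.1 hli
    exact ⟨a, Subtype.ext (by rw [← hl, ← ha, ← IsScalarTower.algebraMap_apply]; rfl)⟩
  refine no_cover (R := A) k hk hkp (C := C) hcard hinjA hfixC fun q hq hq1 => ?_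
  haveI : Algebra.IsIntegral A C := Algebra.IsIntegral.of_finite A C
  haveI := henselianLocalRing_of_complete A
  haveI : IsLocalRing C := Hensel.isLocalRing_of_integral_domain A C
  have hP : q.comap j' ≠ maximalIdeal A := by
    intro h
    letI := j'.toAlgebra
    haveI : Algebra.IsIntegral A C := ⟨hj'int⟩
    have hqm : q.IsMaximal := Ideal.isMaximal_of_isIntegral_of_isMaximal_comap (R := A) q
      (by rw [show q.comap (algebraMap A C) = q.comap j' from rfl, h]; exact maximalIdeal.isMaximal A)
    have h1 := IsLocalRing.maximalIdeal_height_eq_ringKrullDim (R := C)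
    rw [← IsLocalRing.eq_maximalIdeal hqm, hq1, ← SegreDim.ringKrullDim_eq_of_injective_integral hj'] at h1
    rw [← h1] at hdim
    exact absurd (WithBot.coe_le_coe.1 hdim) (by norm_num)
  rw [eq_bot_iff]
  intro σ hσ
  rw [← hram _ (Ideal.IsPrime.comap j') hP]
  intro a
  show j' (σ • a - a) ∈ q
  rw [map_sub, hj'σ]
  exact hσ (j' a)

end Groth.Agent.WildExt
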