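/-
Automorphisms of the invariant ring lift to automorphisms of the cover.
-/
import Mathlib
import Groth.Agent.WildExt.Extend

set_option autoImplicit false
universe u v w

open IsLocalRing
open scoped Pointwise TensorProduct

noncomputable section

namespace Groth.Agent.WildExt

/-- A field extension with the algebra structure twisted by an automorphism of the base. -/
def Twist {K : Type u} [Field K] (_θ : K ≃+* K) (L : Type u) : Type u := L

section Twist

variable {K : Type u} [Field K] (θ : K ≃+* K) (L : Type u) [Field L] [Algebra K L]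

instance : Field (Twist θ L) := inferInstanceAs (Field L)

/-- The identity, into the twist. -/
def toTwist : L ≃+* Twist θ L := RingEquiv.refl L

instance : Algebra K (Twist θ L) :=
  ((toTwist θ L).toRingHom.comp ((algebraMap K L).comp θ.toRingHom)).toAlgebra

instance (G : Type w) [Monoid G] [MulSemiringAction G L] : MulSemiringAction G (Twist θ L) :=
  inferInstanceAs (MulSemiringAction G L)

theorem isGaloisGroup_twist (G : Type w) [Group G] [MulSemiringAction G L] [IsGaloisGroup G K L] :
    IsGaloisGroup G K (Twist θ L) where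
  faithful := ⟨fun {σ τ} h => (IsGaloisGroup.faithful (A := K) (B := L) (G := G)).eq_of_smul_eq_smul h⟩
  commutes := ⟨fun σ c x => by
    haveI := IsGaloisGroup.commutes (G := G) (A := K) (B := L)
    have key : ∀ (c : K) (y : L), σ • (algebraMap K L c * y) = algebraMap K L c * σ • y := fun c y => by
      rw [smul_mul', smul_algebraMap]
    exact key (θ c) x⟩
  isInvariant := ⟨fun x hx => by
    obtain ⟨y, hy⟩ := (IsGaloisGroup.isInvariant (G := G) (A := K) (B := L)).isInvariant (show L from x) hx
    refine ⟨θ.symm y, ?_⟩
    show algebraMap K L (θ (θ.symm y)) = (show L from x)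
    rw [θ.apply_symm_apply, hy]⟩

end Twist

variable {A : Type u} [CommRing A] [IsRegularLocalRing A] [IsAdicComplete (maximalIdeal A) A]
  {G : Type w} [Group G] [Finite G] [MulSemiringAction G A]

theorem bot_ne_maximalIdeal (hdim : 2 ≤ ringKrullDim A) : (⊥ : Ideal A) ≠ maximalIdeal A := fun he => by
  haveI := RegLoc.isDomain A
  have h1 := IsLocalRing.maximalIdeal_height_eq_ringKrullDim (R := A)
  rw [← he, Ideal.height_bot] at h1
  rw [← h1] at hdim
  exact absurd (WithBot.coe_le_coe.1 hdim) (by norm_num)

theorem faithful_of_ramified (hdim : 2 ≤ ringKrullDim A)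
    (hram : ∀ P : Ideal A, P.IsPrime → P ≠ maximalIdeal A → P.inertia G = ⊥) : FaithfulSMul G A := ⟨fun {σ τ} h => by
  haveI := RegLoc.isDomain A
  have h2 : τ⁻¹ * σ ∈ (⊥ : Ideal A).inertia G := fun a => by
    rw [mul_smul, h a, inv_smul_smul, sub_self]
    exact zero_mem _
  rw [hram ⊥ Ideal.isPrime_bot (bot_ne_maximalIdeal hdim), Subgroup.mem_bot, inv_mul_eq_one] at h2
  exact h2.symm⟩

variable {k : Type v} [Field k] [Algebra k A] [SMulCommClass G k A]

/-- Restriction of an automorphism of the fraction field to the integral closure. -/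
theorem exists_restrict [IsDomain A] [IsIntegrallyClosed A] (L : Type u) [Field L] [Algebra A L] [IsFractionRing A L]
    (σ : L →+* L) (φ : FixedPoints.subalgebra k A G ≃ₐ[k] FixedPoints.subalgebra k A G)
    (h : ∀ b : FixedPoints.subalgebra k A G, σ (algebraMap A L b) = algebraMap A L (φ b : A)) (a : A) :
    ∃ a' : A, algebraMap A L a' = σ (algebraMap A L a) := by
  haveI : Algebra.IsInvariant (FixedPoints.subalgebra k A G) A G := ⟨fun a h => ⟨⟨a, h⟩, rfl⟩⟩
  obtain ⟨q, hq, hq0⟩ := (Algebra.IsInvariant.isIntegral (FixedPoints.subalgebra k A G) A G).isIntegral a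
  refine IsIntegrallyClosed.isIntegral_iff.1 ⟨q.map ((algebraMap _ A).comp φ.toRingEquiv.toRingHom), hq.map _, ?_⟩
  rw [Polynomial.eval₂_map,
    show (algebraMap A L).comp ((algebraMap _ A).comp φ.toRingEquiv.toRingHom) =
      (σ.comp (algebraMap A L)).comp (algebraMap (FixedPoints.subalgebra k A G) A) from
      RingHom.ext fun b => (h b).symm]
  show q.eval₂ _ ((σ.comp (algebraMap A L)) a) = 0
  rw [← Polynomial.hom_eval₂, hq0, map_zero]

/-- Every automorphism of the invariant ring extends. -/
theorem exists_algEquiv_extends {p : ℕ} [Fact p.Prime] (hdim : 2 ≤ ringKrullDim A)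
    (hk : Function.Surjective (residue A ∘ algebraMap k A))
    (hkp : ∀ (L : Type v) [Field L] [Algebra k L], IsGalois k L → Module.finrank k L ≠ p)
    (hcard : Nat.card G = p)
    (hram : ∀ P : Ideal A, P.IsPrime → P ≠ maximalIdeal A → P.inertia G = ⊥)
    (φ : FixedPoints.subalgebra k A G ≃ₐ[k] FixedPoints.subalgebra k A G) :
    ∃ ψ : A ≃ₐ[k] A, ∀ x : FixedPoints.subalgebra k A G, ψ x = φ x := by
  classical
  haveI := RegLoc.isDomain A
  haveI : IsIntegrallyClosed A := RegLoc.isIntegrallyClosed
  haveI := faithful_of_ramified hdim hram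
  let B := FixedPoints.subalgebra k A G
  haveI : IsGaloisGroup G B A :=
    { faithful := inferInstance
      commutes := ⟨fun σ b x => by
        show σ • ((b : A) * x) = (b : A) * σ • x
        rw [smul_mul', b.2 σ]⟩
      isInvariant := ⟨fun a h => ⟨⟨a, h⟩, rfl⟩⟩ }
  haveI : Algebra.IsIntegral B A := Algebra.IsInvariant.isIntegral B A G
  let L := FractionRing A
  letI := IsFractionRing.mulSemiringAction G A L
  letI := FractionRing.liftAlgebra B L
  haveI : IsGaloisGroup G (FractionRing B) L :=
    IsGaloisGroup.to_isFractionRing_of_isIntegral G B A (FractionRing B) L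
  let θ : FractionRing B ≃+* FractionRing B :=
    IsFractionRing.ringEquivOfRingEquiv φ.symm.toRingEquiv
  haveI := isGaloisGroup_twist θ L G
  haveI : FaithfulSMul G (Twist θ L) := IsGaloisGroup.faithful (A := FractionRing B) (B := Twist θ L) (G := G)
  haveI : SMulCommClass G (FractionRing B) (Twist θ L) :=
    IsGaloisGroup.commutes (G := G) (A := FractionRing B) (B := Twist θ L)
  haveI := IsGaloisGroup.isGalois G (FractionRing B) (Twist θ L)
  haveI := IsGaloisGroup.finiteDimensional G (FractionRing B) (Twist θ L)
  haveI := IsGaloisGroup.finiteDimensional G (FractionRing B) L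
  have hrM : Module.finrank (FractionRing B) (Twist θ L) = p := by
    rw [← IsGaloisGroup.card_eq_finrank G, hcard]
  have hrL : Module.finrank (FractionRing B) L = p := by
    rw [← IsGaloisGroup.card_eq_finrank G, hcard]
  have hθ : ∀ b : B, θ (algebraMap B (FractionRing B) b) = algebraMap B (FractionRing B) (φ.symm b) := fun b =>
    IsFractionRing.ringEquivOfRingEquiv_algebraMap _ b
  have hBL : ∀ b : B, algebraMap (FractionRing B) L (algebraMap B (FractionRing B) b) = algebraMap A L (b : A) :=
    fun b => (IsScalarTower.algebraMap_apply B (FractionRing B) L b).symm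
  have hint : (algebraMap B A).IsIntegral := algebraMap_isIntegral_iff.2 inferInstance
  obtain ⟨f⟩ := exists_point (A := A) k hk hkp hdim hcard hram (K := FractionRing B) L (M := Twist θ L) hrM
    (fun m hm => (IsGaloisGroup.isInvariant (G := G) (A := FractionRing B) (B := Twist θ L)).isInvariant m hm)
    ((toTwist θ L).toRingHom.comp (algebraMap A L)) (IsFractionRing.injective A L)
    (fun σ a => algebraMap.coe_smul' σ a L)
    (B := B) (algebraMap B A) ((algebraMap B A).comp φ.symm.toRingEquiv.toRingHom) hint
    ((RingHom.isIntegral_of_surjective _ φ.symm.surjective).trans _ _ hint)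
    (algebraMap B (FractionRing B)) hBL
    (fun b => by
      show algebraMap (FractionRing B) L (θ (algebraMap B (FractionRing B) b)) = algebraMap A L (φ.symm b : A)
      rw [hθ, hBL])
  let s : L →+* L := f.toRingHom.comp (toTwist θ L).toRingHom
  have hbij : Function.Bijective s := ⟨s.injective,
    (LinearMap.injective_iff_surjective_of_finrank_eq_finrank (f := f.toLinearMap) (hrM.trans hrL.symm)).1
      f.toRingHom.injective⟩
  let σ : L ≃+* L := RingEquiv.ofBijective s hbij
  have hσ : ∀ b : B, σ (algebraMap A L (b : A)) = algebraMap A L (φ b : A) := fun b => by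
    have h := f.commutes (algebraMap B (FractionRing B) (φ b))
    rw [hBL] at h
    rw [← h]
    show f (toTwist θ L (algebraMap A L (b : A))) =
      f (toTwist θ L (algebraMap (FractionRing B) L (θ (algebraMap B (FractionRing B) (φ b)))))
    rw [hθ, hBL, AlgEquiv.symm_apply_apply]
  have hσ' : ∀ b : B, σ.symm (algebraMap A L (b : A)) = algebraMap A L (φ.symm b : A) := fun b => by
    rw [RingEquiv.symm_apply_eq, hσ, AlgEquiv.apply_symm_apply]
  choose F hF using exists_restrict L σ.toRingHom φ hσ
  choose F' hF' using exists_restrict L σ.symm.toRingHom φ.symm hσ'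
  have hinj := IsFractionRing.injective A L
  let ψ : A ≃+* A :=
    { toFun := F
      invFun := F'
      left_inv := fun a => hinj (by rw [hF', hF]; exact σ.symm_apply_apply _)
      right_inv := fun a => hinj (by rw [hF, hF']; exact σ.apply_symm_apply _)
      map_mul' := fun a b => hinj (by simp only [map_mul, hF])
      map_add' := fun a b => hinj (by simp only [map_add, hF]) }
  have hψ : ∀ x : B, ψ x = φ x := fun x => hinj ((hF _).trans (hσ x))
  refine ⟨AlgEquiv.ofRingEquiv (f := ψ) fun c => ?_, hψ⟩
  have h := hψ (algebraMap k B c)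
  rw [φ.commutes] at h
  exact h

end Groth.Agent.WildExt
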